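import Cfsg.Agent.H22.HT.G2Row
import Cfsg.Agent.H22.HT.G2Out
import Cfsg.Agent.H384.HT.GTwoFin
import Cfsg.Agent.H624.HT.RowOf

/-!
# S4933, box o.exc.g2: the field `g2` of `OddRows` (helper22)
-/

set_option autoImplicit false

open Cfsg

namespace Cfsg.Agent.H22.HT

open Cfsg.Agent.H316.HT

/-- **The odd rows of `G₂(q)` in cross characteristic.** -/
theorem g2 (p : ℕ) [Fact p.Prime] (F : Type) [Field F] [Fintype F] [IsSimpleGroup (Lie.chevG2.group F)] (hp : p ≠ 2)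
    (hq : ¬ p ∣ Fintype.card F) (h : ¬ H892.HT.Ab p (Lie.chevG2.group F)) : Row p (Lie.chevG2.group F) :=
  g2_of (fun F _ _ h9 => by
    have : Finite ↥(Lie.chevG2.group F) := inferInstance
    exact H624.HT.Row.of (H384.HT.GTwo.rowIn_g2 h9) (rowOut_g2 h9)) p F hp hq h

end Cfsg.Agent.H22.HT
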