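import Cfsg.Agent.H22.HT.UdG2
import Cfsg.Agent.H248.HT.Glue
import Cfsg.Agent.H561.HT.G2
import Cfsg.Agent.H726.HT.Ab

/-!
# S4933 : the field `g2` of the odd rows, up to `9 ∣ q + 1` (helper22)
-/

set_option autoImplicit false

namespace Cfsg.Agent.H22.HT

open Cfsg Cfsg.Agent.H316.HT

/-- **the field `g2` of the odd rows** -/
theorem g2_of (h9 : ∀ (F : Type) [Field F] [Fintype F], 9 ∣ Fintype.card F + 1 → Row 3 (Lie.chevG2.group F))
    (p : ℕ) [Fact p.Prime] (F : Type) [Field F] [Fintype F] [IsSimpleGroup (Lie.chevG2.group F)] (hp : p ≠ 2)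
    (hq : ¬ p ∣ Fintype.card F) (h : ¬ H892.HT.Ab p (Lie.chevG2.group F)) : Row p (Lie.chevG2.group F) := by
  have h3 : p = 3 := H726.HT.g2_cases hp hq h
  subst h3
  have : Finite ↥(Lie.chevG2.group F) := inferInstance
  by_cases h1 : 3 ∣ Fintype.card F - 1
  · exact H561.HT.GT.row_three h1
  · by_cases h2 : 9 ∣ Fintype.card F + 1
    · exact h9 F h2
    · have hc : 1 < Fintype.card F := Fintype.one_lt_card
      exact H248.HT.row_of_ud_one (ud_G2 F (by omega))

end Cfsg.Agent.H22.HT
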